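import Mathlib
import Groth.Prelude.Def_SpSeq

/-!
# Fibre products and amalgamated sums of filtered objects
-/

set_option autoImplicit false
set_option linter.all false
universe v u
open CategoryTheory CategoryTheory.Limits SpSeq

namespace FilObjLib

variable {A : Type u} [Category.{v} A] [Abelian A]

/-- a morphism factors through a subobject -/
def In {X T : A} (x : T ⟶ X) (S : Subobject X) : Prop := ∃ y : T ⟶ (S : A), y ≫ S.arrow = x

theorem In.comp {X T T' : A} {x : T ⟶ X} {S : Subobject X} (h : In x S) (π : T' ⟶ T) : In (π ≫ x) S := by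
  obtain ⟨y, hy⟩ := h
  exact ⟨π ≫ y, by rw [Category.assoc, hy]⟩

theorem In.of_le {X T : A} {x : T ⟶ X} {S S' : Subobject X} (h : In x S) (hle : S ≤ S') : In x S' := by
  obtain ⟨y, hy⟩ := h
  exact ⟨y ≫ S.ofLE S' hle, by rw [Category.assoc, Subobject.ofLE_arrow, hy]⟩

theorem In.add {X T : A} {x y : T ⟶ X} {S : Subobject X} (hx : In x S) (hy : In y S) : In (x + y) S := by
  obtain ⟨a, ha⟩ := hx
  obtain ⟨b, hb⟩ := hy
  exact ⟨a + b, by rw [Preadditive.add_comp, ha, hb]⟩

theorem le_of_refine {X : A} {S S' : Subobject X} {T : A} (π : T ⟶ (S : A)) [Epi π]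
    (h : In (π ≫ S.arrow) S') : S ≤ S' := by
  obtain ⟨y, hy⟩ := h
  haveI : StrongEpi π := strongEpi_of_epi π
  have sq : CommSq y π S'.arrow S.arrow := ⟨hy⟩
  exact Subobject.le_of_comm sq.lift sq.fac_right

theorem le_pullback_iff {X Y : A} (S : Subobject X) (h : X ⟶ Y) (S' : Subobject Y) :
    S ≤ (Subobject.pullback h).obj S' ↔ In (S.arrow ≫ h) S' := by
  have sq := Subobject.isPullback h S'
  constructor
  · intro hle
    exact ⟨S.ofLE _ hle ≫ Subobject.pullbackπ h S', by
      rw [Category.assoc, sq.w, ← Category.assoc, Subobject.ofLE_arrow]⟩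
  · rintro ⟨y, hy⟩
    exact Subobject.le_of_comm (sq.lift y S.arrow hy) (sq.lift_snd _ _ _)

theorem in_pullback_iff {X Y T : A} (h : X ⟶ Y) (S' : Subobject Y) (x : T ⟶ X) :
    In x ((Subobject.pullback h).obj S') ↔ In (x ≫ h) S' := by
  have sq := Subobject.isPullback h S'
  constructor
  · rintro ⟨y, hy⟩
    exact ⟨y ≫ Subobject.pullbackπ h S', by rw [Category.assoc, sq.w, ← Category.assoc, hy]⟩
  · rintro ⟨y, hy⟩
    exact ⟨sq.lift y x hy, sq.lift_snd _ _ _⟩

theorem in_inf {X T : A} {x : T ⟶ X} {S S' : Subobject X} (h : In x S) (h' : In x S') : In x (S ⊓ S') := by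
  obtain ⟨y, hy⟩ := h
  obtain ⟨y', hy'⟩ := h'
  have : (S ⊓ S').Factors x :=
    (Subobject.inf_factors _).2 ⟨hy ▸ Subobject.factors_comp_arrow y, hy' ▸ Subobject.factors_comp_arrow y'⟩
  exact ⟨(S ⊓ S').factorThru x this, Subobject.factorThru_arrow _ _ _⟩

theorem in_image {X Y : A} (h : X ⟶ Y) : In h (imageSubobject h) :=
  ⟨factorThruImageSubobject h, imageSubobject_arrow_comp h⟩

theorem image_le {X Y : A} {h : X ⟶ Y} {S : Subobject Y} (hS : In h S) : imageSubobject h ≤ S := by
  obtain ⟨y, hy⟩ := hS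
  exact imageSubobject_le h y hy

theorem exists_of_in_image {X Y T : A} {h : X ⟶ Y} {x : T ⟶ Y} (hx : In x (imageSubobject h)) :
    ∃ (T' : A) (π : T' ⟶ T) (_ : Epi π) (z : T' ⟶ X), z ≫ h = π ≫ x := by
  obtain ⟨y, hy⟩ := hx
  haveI : Epi (factorThruImageSubobject h) := inferInstance
  refine ⟨pullback y (factorThruImageSubobject h), pullback.fst _ _, inferInstance, pullback.snd _ _, ?_⟩
  calc pullback.snd y (factorThruImageSubobject h) ≫ h
      = pullback.snd y (factorThruImageSubobject h) ≫ factorThruImageSubobject h ≫ (imageSubobject h).arrow := by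
        rw [imageSubobject_arrow_comp]
    _ = pullback.fst y (factorThruImageSubobject h) ≫ y ≫ (imageSubobject h).arrow :=
        ((Category.assoc _ _ _).symm.trans (congrArg (· ≫ _) pullback.condition.symm)).trans (Category.assoc _ _ _)
    _ = _ := by rw [hy]

theorem compat' {K L : FilObj A} (f : K ⟶ L) {T : A} {p : ℤ} {x : T ⟶ K.obj} (hx : In x (K.fil p)) :
    In (x ≫ f.hom) (L.fil p) :=
  (in_pullback_iff f.hom (L.fil p) x).1 (hx.of_le (f.compat p))

theorem isStrict_iso {K L : FilObj A} (e : K ≅ L) : FilObj.IsStrict e.hom := by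
  intro p
  refine le_antisymm (le_inf (imageSubobject_comp_le _ _) (image_le (compat' e.hom ⟨𝟙 _, Category.id_comp _⟩))) ?_
  refine inf_le_right.trans ?_
  have h1 : In ((L.fil p).arrow ≫ e.inv.hom) (K.fil p) := compat' e.inv ⟨𝟙 _, Category.id_comp _⟩
  obtain ⟨y, hy⟩ := h1
  refine le_of_refine (𝟙 _) ⟨y ≫ factorThruImageSubobject _, ?_⟩
  have h2 : e.inv.hom ≫ e.hom.hom = 𝟙 _ := congrArg FilObj.Hom.hom e.inv_hom_id
  rw [Category.assoc, imageSubobject_arrow_comp, Category.id_comp, ← Category.assoc, hy, Category.assoc, h2,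
    Category.comp_id]

/-! ### fibre products -/

section Pullback

variable {K L M : FilObj A} (f : L ⟶ K) (g : M ⟶ K)

/-- the fibre product -/
noncomputable def pb : FilObj A where
  obj := pullback f.hom g.hom
  fil p := (Subobject.pullback (pullback.fst f.hom g.hom)).obj (L.fil p) ⊓
    (Subobject.pullback (pullback.snd f.hom g.hom)).obj (M.fil p)
  anti p q h := inf_le_inf (((Subobject.pullback _).map (homOfLE (L.anti h))).le)
    (((Subobject.pullback _).map (homOfLE (M.anti h))).le)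

/-- first projection -/
noncomputable def pbFst : pb f g ⟶ L := ⟨pullback.fst f.hom g.hom, fun p => inf_le_left⟩

/-- second projection -/
noncomputable def pbSnd : pb f g ⟶ M := ⟨pullback.snd f.hom g.hom, fun p => inf_le_right⟩

theorem pb_cond : pbFst f g ≫ f = pbSnd f g ≫ g := FilObj.Hom.ext pullback.condition

/-- lift -/
noncomputable def pbLift {W : FilObj A} (a : W ⟶ L) (b : W ⟶ M) (w : a ≫ f = b ≫ g) : W ⟶ pb f g :=
  ⟨pullback.lift a.hom b.hom (congrArg FilObj.Hom.hom w), fun p => by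
    rw [le_pullback_iff]
    refine in_inf ((in_pullback_iff _ _ _).2 ?_) ((in_pullback_iff _ _ _).2 ?_)
    · rw [Category.assoc]; erw [pullback.lift_fst]; exact compat' a ⟨𝟙 _, Category.id_comp _⟩
    · rw [Category.assoc]; erw [pullback.lift_snd]; exact compat' b ⟨𝟙 _, Category.id_comp _⟩⟩

/-- it is a fibre product -/
theorem isPullback : IsPullback (pbFst f g) (pbSnd f g) f g :=
  ⟨⟨pb_cond f g⟩, ⟨PullbackCone.IsLimit.mk (pb_cond f g) (fun s => pbLift f g s.fst s.snd s.condition)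
    (fun s => FilObj.Hom.ext (pullback.lift_fst _ _ _)) (fun s => FilObj.Hom.ext (pullback.lift_snd _ _ _))
    (fun s m h1 h2 => FilObj.Hom.ext (pullback.hom_ext
      ((congrArg FilObj.Hom.hom h1).trans (pullback.lift_fst _ _ _).symm)
      ((congrArg FilObj.Hom.hom h2).trans (pullback.lift_snd _ _ _).symm)))⟩⟩

theorem isStrict_pbSnd (hf : FilObj.IsStrict f) : FilObj.IsStrict (pbSnd f g) := by
  intro p
  refine le_antisymm (le_inf (imageSubobject_comp_le _ _) (image_le (compat' (pbSnd f g) ⟨𝟙 _, Category.id_comp _⟩))) ?_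
  let S := imageSubobject (pullback.snd f.hom g.hom) ⊓ M.fil p
  have hS : In S.arrow S := ⟨𝟙 _, Category.id_comp _⟩
  obtain ⟨T, π, hπ, z, hz⟩ := exists_of_in_image (hS.of_le inf_le_left)
  haveI := hπ
  have hxF : In (π ≫ S.arrow) (M.fil p) := (hS.of_le inf_le_right).comp π
  have hgK : In ((z ≫ pullback.fst f.hom g.hom) ≫ f.hom) (imageSubobject f.hom ⊓ K.fil p) := by
    refine in_inf ((in_image f.hom).comp _) ?_
    rw [Category.assoc, pullback.condition, ← Category.assoc, hz]
    exact compat' g hxF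
  rw [← hf p] at hgK
  obtain ⟨T', π', hπ', l, hl⟩ := exists_of_in_image hgK
  haveI := hπ'
  have hw : (l ≫ (L.fil p).arrow) ≫ f.hom = (π' ≫ π ≫ S.arrow) ≫ g.hom := by
    rw [Category.assoc, hl, Category.assoc, pullback.condition, ← hz]
    simp only [Category.assoc]
  let z' : T' ⟶ pullback f.hom g.hom := pullback.lift _ _ hw
  have hz' : In z' ((pb f g).fil p) := by
    refine in_inf ((in_pullback_iff _ _ _).2 ?_) ((in_pullback_iff _ _ _).2 ?_)
    · rw [pullback.lift_fst]; exact ⟨l, rfl⟩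
    · rw [pullback.lift_snd]; exact hxF.comp π'
  obtain ⟨y, hy⟩ := hz'
  haveI : Epi (π' ≫ π) := epi_comp _ _
  refine le_of_refine (S := S) (π' ≫ π) ?_
  refine ⟨y ≫ factorThruImageSubobject _, ?_⟩
  rw [Category.assoc]
  refine (congrArg (y ≫ ·) (imageSubobject_arrow_comp _)).trans ?_
  refine (Category.assoc _ _ _).symm.trans ?_
  refine (congrArg (· ≫ _) hy).trans ?_
  show z' ≫ pullback.snd _ _ = _
  rw [pullback.lift_snd]
  simp only [Category.assoc]

end Pullback

/-! ### amalgamated sums -/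

section Pushout

variable {K L M : FilObj A} (f : K ⟶ L) (g : K ⟶ M)

/-- the amalgamated sum -/
noncomputable def po : FilObj A where
  obj := pushout f.hom g.hom
  fil p := imageSubobject (biprod.desc ((L.fil p).arrow ≫ pushout.inl f.hom g.hom)
    ((M.fil p).arrow ≫ pushout.inr f.hom g.hom))
  anti p q h := by
    refine image_le ⟨biprod.map (L.stepLE h) (M.stepLE h) ≫ factorThruImageSubobject _, ?_⟩
    rw [Category.assoc, imageSubobject_arrow_comp]
    apply biprod.hom_ext' <;>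
      simp only [biprod.inl_map_assoc, biprod.inr_map_assoc, biprod.inl_desc, biprod.inr_desc,
        Subobject.ofLE_arrow_assoc]

theorem in_po_inl (p : ℤ) : In ((L.fil p).arrow ≫ pushout.inl f.hom g.hom) ((po f g).fil p) := by
  have h := (in_image (biprod.desc ((L.fil p).arrow ≫ pushout.inl f.hom g.hom)
    ((M.fil p).arrow ≫ pushout.inr f.hom g.hom))).comp biprod.inl
  rw [biprod.inl_desc] at h
  exact h

theorem in_po_inr (p : ℤ) : In ((M.fil p).arrow ≫ pushout.inr f.hom g.hom) ((po f g).fil p) := by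
  have h := (in_image (biprod.desc ((L.fil p).arrow ≫ pushout.inl f.hom g.hom)
    ((M.fil p).arrow ≫ pushout.inr f.hom g.hom))).comp biprod.inr
  rw [biprod.inr_desc] at h
  exact h

/-- first inclusion -/
noncomputable def poInl : L ⟶ po f g :=
  ⟨pushout.inl f.hom g.hom, fun p => (le_pullback_iff _ _ _).2 (in_po_inl f g p)⟩

/-- second inclusion -/
noncomputable def poInr : M ⟶ po f g :=
  ⟨pushout.inr f.hom g.hom, fun p => (le_pullback_iff _ _ _).2 (in_po_inr f g p)⟩

theorem po_cond : f ≫ poInl f g = g ≫ poInr f g := FilObj.Hom.ext pushout.condition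

/-- descent -/
noncomputable def poDesc {W : FilObj A} (a : L ⟶ W) (b : M ⟶ W) (w : f ≫ a = g ≫ b) : po f g ⟶ W :=
  ⟨pushout.desc a.hom b.hom (congrArg FilObj.Hom.hom w), fun p => image_le ((in_pullback_iff _ _ _).2 (by
    obtain ⟨u, hu⟩ := compat' a (p := p) ⟨𝟙 _, Category.id_comp _⟩
    obtain ⟨v, hv⟩ := compat' b (p := p) ⟨𝟙 _, Category.id_comp _⟩
    refine ⟨biprod.desc u v, ?_⟩
    apply biprod.hom_ext' <;>
      simp only [Category.assoc, biprod.inl_desc_assoc, biprod.inr_desc_assoc, imageSubobject_arrow_comp_assoc, hu, hv]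
    · erw [pushout.inl_desc]
    · erw [pushout.inr_desc]))⟩

/-- it is an amalgamated sum -/
theorem isPushout : IsPushout f g (poInl f g) (poInr f g) :=
  ⟨⟨po_cond f g⟩, ⟨PushoutCocone.IsColimit.mk (po_cond f g) (fun s => poDesc f g s.inl s.inr s.condition)
    (fun s => FilObj.Hom.ext (pushout.inl_desc _ _ _)) (fun s => FilObj.Hom.ext (pushout.inr_desc _ _ _))
    (fun s m h1 h2 => FilObj.Hom.ext (pushout.hom_ext
      ((congrArg FilObj.Hom.hom h1).trans (pushout.inl_desc _ _ _).symm)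
      ((congrArg FilObj.Hom.hom h2).trans (pushout.inr_desc _ _ _).symm)))⟩⟩

theorem isStrict_poInr (hf : FilObj.IsStrict f) : FilObj.IsStrict (poInr f g) := by
  intro p
  refine le_antisymm (le_inf (imageSubobject_comp_le _ _) (image_le (compat' (poInr f g) ⟨𝟙 _, Category.id_comp _⟩))) ?_
  let S := imageSubobject (pushout.inr f.hom g.hom) ⊓ (po f g).fil p
  have hS : In S.arrow S := ⟨𝟙 _, Category.id_comp _⟩
  obtain ⟨T, π, hπ, m, hm⟩ := exists_of_in_image (hS.of_le inf_le_left)
  haveI := hπ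
  obtain ⟨T₁, π₁, hπ₁, w, hw⟩ := exists_of_in_image ((hS.of_le inf_le_right).comp π)
  haveI := hπ₁
  let l : T₁ ⟶ L.obj := (w ≫ biprod.fst) ≫ (L.fil p).arrow
  let m' : T₁ ⟶ M.obj := (w ≫ biprod.snd) ≫ (M.fil p).arrow
  have heq : l ≫ pushout.inl f.hom g.hom + m' ≫ pushout.inr f.hom g.hom = π₁ ≫ π ≫ S.arrow := by
    rw [← hw, biprod.desc_eq, Preadditive.comp_add]
    simp only [l, m', Category.assoc]
  -- the difference comes from the vertex
  let d : T₁ ⟶ M.obj := π₁ ≫ m - m'
  have hd : l ≫ pushout.inl f.hom g.hom = d ≫ pushout.inr f.hom g.hom := by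
    simp only [d, Preadditive.sub_comp, Category.assoc, hm]
    rw [← heq, add_sub_cancel_right]
  let sc : ShortComplex A := (ShortComplex.mk (biprod.lift f.hom (-g.hom))
    (biprod.desc (pushout.inl f.hom g.hom) (pushout.inr f.hom g.hom)) (by
      rw [biprod.lift_desc, pushout.condition, Preadditive.neg_comp, add_neg_cancel]))
  have hsc : sc.Exact := (IsPushout.of_hasPushout f.hom g.hom).exact_shortComplex
  obtain ⟨T₂, π₂, hπ₂, k, hk⟩ := hsc.exact_up_to_refinements (biprod.lift l (-d)) (by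
    show biprod.lift l (-d) ≫ biprod.desc _ _ = 0
    rw [biprod.lift_desc, hd, Preadditive.neg_comp, add_neg_cancel])
  haveI := hπ₂
  have hk1 : π₂ ≫ l = k ≫ f.hom := by
    have := congrArg (· ≫ biprod.fst) hk
    simpa [sc] using this
  have hk2 : π₂ ≫ d = k ≫ g.hom := by
    have := congrArg (· ≫ biprod.snd) hk
    simpa [sc] using this
  have hlK : In (k ≫ f.hom) (imageSubobject f.hom ⊓ L.fil p) := by
    refine in_inf ((in_image f.hom).comp _) ?_
    rw [← hk1]
    exact In.comp ⟨w ≫ biprod.fst, rfl⟩ π₂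
  rw [← hf p] at hlK
  obtain ⟨T₃, π₃, hπ₃, k', hk'⟩ := exists_of_in_image hlK
  haveI := hπ₃
  have hfin : In (π₃ ≫ π₂ ≫ m' + (k' ≫ (K.fil p).arrow) ≫ g.hom) (M.fil p) :=
    ((In.comp (In.comp ⟨w ≫ biprod.snd, rfl⟩ π₂) π₃)).add (compat' g ⟨k', rfl⟩)
  obtain ⟨y, hy⟩ := hfin
  haveI : Epi (π₁ ≫ π) := epi_comp _ _
  haveI : Epi (π₂ ≫ π₁ ≫ π) := epi_comp _ _
  haveI : Epi (π₃ ≫ π₂ ≫ π₁ ≫ π) := epi_comp _ _
  refine le_of_refine (S := S) (π₃ ≫ π₂ ≫ π₁ ≫ π) ⟨y ≫ factorThruImageSubobject _, ?_⟩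
  rw [Category.assoc]
  refine (congrArg (y ≫ ·) (imageSubobject_arrow_comp _)).trans ?_
  refine (Category.assoc _ _ _).symm.trans ?_
  refine (congrArg (· ≫ _) hy).trans ?_
  show (π₃ ≫ π₂ ≫ m' + (k' ≫ (K.fil p).arrow) ≫ g.hom) ≫ pushout.inr f.hom g.hom = _
  have e1 : ((k' ≫ (K.fil p).arrow) ≫ g.hom) ≫ pushout.inr f.hom g.hom =
      π₃ ≫ π₂ ≫ (d ≫ pushout.inr f.hom g.hom) := by
    rw [Category.assoc (k' ≫ _) g.hom, ← pushout.condition, ← Category.assoc, Category.assoc k', hk']
    simp only [Category.assoc]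
    rw [pushout.condition, ← Category.assoc k, ← hk2, Category.assoc]
  rw [Preadditive.add_comp, e1]
  simp only [Category.assoc]
  rw [← Preadditive.comp_add, ← Preadditive.comp_add]
  have : m' ≫ pushout.inr f.hom g.hom + d ≫ pushout.inr f.hom g.hom = π₁ ≫ π ≫ S.arrow := by
    simp only [d, Preadditive.sub_comp, Category.assoc, hm]
    abel
  rw [this]

end Pushout

end FilObjLib
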